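import Cfsg.Agent.H648.KS.Defs
import Cfsg.Agent.H392.KKL.Hom

/-!
# S4577: the `SL₂` layer (helper425)

* `exists_w` : for a trace zero matrix `δ ≠ 0` there is `w ∈ SL₂(F)` with `w² = -1`, `δ w = - w δ`;
* `tl` : `TL D t J` from the action of `C(t)` on `J = Q.range` through `GL₂(F)`.
-/

set_option autoImplicit false
set_option linter.unusedSectionVars false

open Cfsg

namespace Cfsg.Agent.H425.KS

open Cfsg.Agent.H613.KS (Cfg CfgB E16 Five)
open Cfsg.Agent.H613.KKL (CI)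
open Cfsg.Agent.H40.KKL (Cz Sc comm_iff comm_of_comm trace_zero)
open Cfsg.Agent.H392.KKL (cg cg_coe cg_eq cg_eq_iff cg_mul cg_one cg_inv cg_trivial cg_toGL Act Act.mul Act.inv act_range
  inj_of_neg odd_card)
open Cfsg.Agent.H648.KS (At TL)
open Cfsg.Agent.ChevalleyStructure.SL2Hom (up lo)
open scoped MatrixGroups

section mat

variable {F : Type} [Field F]

local notation "M₂" => Matrix (Fin 2) (Fin 2) F

/-- matrices commuting with a nonscalar matrix -/
theorem exists_lin {A T : M₂} (hT : ¬ Sc T) (h : A * T = T * A) : ∃ a b : F, A = a • (1 : M₂) + b • T := by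
  obtain ⟨h1, h2, h3⟩ := (comm_iff A T).1 h
  have key : ∃ b : F, A 0 1 = b * T 0 1 ∧ A 1 0 = b * T 1 0 ∧ A 0 0 - A 1 1 = b * (T 0 0 - T 1 1) := by
    by_cases h01 : T 0 1 = 0
    · by_cases h10 : T 1 0 = 0
      · have h00 : T 0 0 - T 1 1 ≠ 0 := fun h => hT ⟨h01, h10, h⟩
        refine ⟨(A 0 0 - A 1 1) / (T 0 0 - T 1 1), ?_, ?_, ?_⟩
        · rw [h01, mul_zero]
          rw [h01, mul_zero] at h2
          exact (mul_eq_zero.1 h2.symm).resolve_left h00
        · rw [h10, mul_zero]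
          rw [h10, mul_zero] at h3
          exact (mul_eq_zero.1 h3.symm).resolve_left h00
        · rw [div_mul_cancel₀ _ h00]
      · refine ⟨A 1 0 / T 1 0, ?_, ?_, ?_⟩
        · rw [div_mul_eq_mul_div, eq_div_iff h10]; linear_combination h1
        · rw [div_mul_cancel₀ _ h10]
        · rw [div_mul_eq_mul_div, eq_div_iff h10]; linear_combination h3
    · refine ⟨A 0 1 / T 0 1, ?_, ?_, ?_⟩
      · rw [div_mul_cancel₀ _ h01]
      · rw [div_mul_eq_mul_div, eq_div_iff h01]; linear_combination -h1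
      · rw [div_mul_eq_mul_div, eq_div_iff h01]; linear_combination h2
  obtain ⟨b, h4, h5, h6⟩ := key
  refine ⟨A 0 0 - b * T 0 0, b, ?_⟩
  ext i j
  fin_cases i <;> fin_cases j <;> simp
  · exact h4
  · exact h5
  · linear_combination -h6

/-- `G` anticommutes with `T`, `a` commutes with `T` : `G a = a⁻¹ G` -/
theorem anti {G T : M₂} {a : SL(2, F)} (hT : ¬ Sc T) (h0 : T 0 0 + T 1 1 = 0) (hG : G * T = -(T * G))
    (ha : (a : M₂) * T = T * a) : G * (a : M₂) = ((a⁻¹ : SL(2, F)) : M₂) * G := by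
  obtain ⟨u, v, e⟩ := exists_lin hT ha
  have h1 : ((a⁻¹ : SL(2, F)) : M₂) = u • (1 : M₂) - v • T := by
    rw [Matrix.SpecialLinearGroup.coe_inv, e]
    ext i j
    fin_cases i <;> fin_cases j <;> simp [Matrix.adjugate_fin_two]
    · linear_combination v * h0
    · linear_combination v * h0
  rw [h1, e, mul_add, sub_mul, mul_smul_comm, mul_smul_comm, smul_mul_assoc, smul_mul_assoc, mul_one, one_mul, hG,
    smul_neg, sub_eq_add_neg]

variable [Fintype F]

/-- `x² + e y² = -1` -/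
theorem exists_xy (h2 : (2 : F) ≠ 0) {e : F} (he : e ≠ 0) : ∃ x y : F, x * x + e * (y * y) = -1 := by
  have hodd : Fintype.card F % 2 = 1 := Nat.odd_iff.1 (odd_card h2)
  have h1 : (Polynomial.X ^ 2 : Polynomial F).degree = 2 := Polynomial.degree_X_pow 2
  have h3 : (Polynomial.C e * Polynomial.X ^ 2 + Polynomial.C 0 * Polynomial.X + Polynomial.C 1 : Polynomial F).degree = 2 :=
    Polynomial.degree_quadratic he
  obtain ⟨x, y, h⟩ := FiniteField.exists_root_sum_quadratic h1 h3 hodd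
  refine ⟨x, y, ?_⟩
  simp only [Polynomial.eval_pow, Polynomial.eval_X, Polynomial.eval_add, Polynomial.eval_mul, Polynomial.eval_C] at h
  linear_combination h

/-- a square root of `-1` in `SL₂(F)` anticommuting with a trace zero matrix -/
theorem exists_w (h2 : (2 : F) ≠ 0) {T : M₂} (h0 : T 0 0 + T 1 1 = 0) (hd : T.det ≠ 0) :
    ∃ w : SL(2, F), w * w = -1 ∧ (w : M₂) * T = -(T * (w : M₂)) := by
  have h11 : T 1 1 = -T 0 0 := by linear_combination h0
  have hdet : T.det = -(T 0 0 * T 0 0 + T 0 1 * T 1 0) := by rw [Matrix.det_fin_two, h11]; ring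
  obtain ⟨X, Y, hXY⟩ := exists_xy h2 hd
  -- entries
  have key : ∃ x y z : F, 2 * T 0 0 * x + T 0 1 * z + T 1 0 * y = 0 ∧ x * x + y * z = -1 := by
    by_cases h01 : T 0 1 = 0
    · by_cases h10 : T 1 0 = 0
      · exact ⟨0, 1, -1, by rw [h01, h10]; ring, by ring⟩
      · refine ⟨X - T 0 0 * Y, -2 * T 0 0 * X / T 1 0 + (T 0 1 + 2 * T 0 0 * T 0 0 / T 1 0) * Y, -(T 1 0 * Y), ?_, ?_⟩
        · field_simp
          ring
        · rw [hdet] at hXY
          field_simp
          linear_combination hXY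
    · refine ⟨X - T 0 0 * Y, -(T 0 1 * Y), -2 * T 0 0 * X / T 0 1 + (T 1 0 + 2 * T 0 0 * T 0 0 / T 0 1) * Y, ?_, ?_⟩
      · field_simp
        ring
      · rw [hdet] at hXY
        field_simp
        linear_combination hXY
  obtain ⟨x, y, z, h3, h4⟩ := key
  refine ⟨⟨!![x, y; z, -x], by rw [Matrix.det_fin_two_of]; linear_combination -h4⟩, ?_, ?_⟩
  · apply Subtype.ext
    show !![x, y; z, -x] * !![x, y; z, -x] = -1
    ext i j
    fin_cases i <;> fin_cases j <;> simp
    · linear_combination h4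
    · ring
    · ring
    · linear_combination h4
  · show !![x, y; z, -x] * T = -(T * !![x, y; z, -x])
    ext i j
    fin_cases i <;> fin_cases j <;> simp [Matrix.mul_apply, Fin.sum_univ_two, h11]
    · linear_combination h3
    · ring
    · ring
    · linear_combination h3

omit [Fintype F] in
theorem mul_self_one {m : SL(2, F)} (h2 : (2 : F) ≠ 0) (h : m * m = 1) : m = 1 ∨ m = -1 := by
  have h1 : m⁻¹ = m := inv_eq_of_mul_eq_one_left h
  have h3 : ((m⁻¹ : SL(2, F)) : M₂) = (m : M₂) := by rw [h1]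
  rw [Matrix.SpecialLinearGroup.coe_inv, Matrix.adjugate_fin_two] at h3
  have e00 := congrFun (congrFun h3 0) 0
  have e01 := congrFun (congrFun h3 0) 1
  have e10 := congrFun (congrFun h3 1) 0
  simp at e00 e01 e10
  have z01 : (m : M₂) 0 1 = 0 := by
    have : (2 : F) * (m : M₂) 0 1 = 0 := by linear_combination -e01
    exact (mul_eq_zero.1 this).resolve_left h2
  have z10 : (m : M₂) 1 0 = 0 := by
    have : (2 : F) * (m : M₂) 1 0 = 0 := by linear_combination -e10
    exact (mul_eq_zero.1 this).resolve_left h2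
  have hd := m.2
  rw [Matrix.det_fin_two] at hd
  have h5 : ((m : M₂) 0 0 - 1) * ((m : M₂) 0 0 + 1) = 0 := by
    have hd' : (m : M₂) 0 0 * (m : M₂) 1 1 - (m : M₂) 0 1 * (m : M₂) 1 0 = 1 := hd
    rw [z01, zero_mul, sub_zero, e00] at hd'
    linear_combination hd'
  rcases mul_eq_zero.1 h5 with h6 | h6
  · left
    apply Subtype.ext
    show (m : M₂) = 1
    have h7 : (m : M₂) 0 0 = 1 := by linear_combination h6
    ext i j
    fin_cases i <;> fin_cases j <;> simp [z01, z10, e00, h7]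
  · right
    apply Subtype.ext
    show (m : M₂) = -1
    have h7 : (m : M₂) 0 0 = -1 := by linear_combination h6
    ext i j
    fin_cases i <;> fin_cases j <;> simp [z01, z10, e00, h7]

end mat

section grp

variable {K : Type*} [Group K] {F : Type} [Field F] [Fintype F]

local notation "M₂" => Matrix (Fin 2) (Fin 2) F

omit [Fintype F] in
theorem comm_D {D : Subgroup K} (hc : E16 D) {d e : K} (hd : d ∈ D) (he : e ∈ D) : d * e = e * d := by
  have h1 := hc.inv _ (mul_mem hd he)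
  have h3 := hc.inv d hd
  have h4 := hc.inv e he
  calc d * e = (d * e)⁻¹ := eq_inv_of_mul_eq_one_left h1
    _ = e⁻¹ * d⁻¹ := mul_inv_rev _ _
    _ = e * d := by rw [inv_eq_of_mul_eq_one_left h3, inv_eq_of_mul_eq_one_left h4]

/-- `x` does not centralize `J_t` -/
theorem not_cz_x {D : Subgroup K} {x : K} (hc : Cfg D x) {t : K} (ht : t ∈ D) (ht1 : t ≠ 1) {J : Subgroup K}
    (hJ : CI t J) : ¬ Cz J x := by
  intro h
  obtain ⟨i, mi, j, mj, hi, hj, hij⟩ := hJ.q8
  have h4 : i ^ 4 = 1 := by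
    have : i ^ 4 = (i * i) * (i * i) := by simp only [pow_succ, pow_zero, one_mul, mul_assoc]
    rw [this, hi, hc.e16.inv t ht]
  have hQ : IsPGroup 2 ↥(Subgroup.zpowers i) := by
    rintro ⟨_, n, rfl⟩
    refine ⟨2, Subtype.ext ?_⟩
    show (i ^ n) ^ 2 ^ 2 = 1
    have h5 : (2 : ℕ) ^ 2 = 4 := rfl
    rw [h5, ← zpow_natCast, ← zpow_mul, mul_comm, zpow_mul, zpow_natCast, h4, one_zpow]
  obtain ⟨c, hcx, hcQ⟩ := hc.syl (Subgroup.zpowers i) hQ (by
    rintro _ ⟨n, rfl⟩
    have h1 : Commute x i := h i mi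
    exact (h1.symm.zpow_left n).eq)
  have h5 := hc.e16.inv _ (hcQ i (Subgroup.mem_zpowers i))
  apply ht1
  rw [← hi]
  calc i * i = c⁻¹ * (c * i * c⁻¹ * (c * i * c⁻¹)) * c := by group
    _ = 1 := by rw [h5]; group

/-- index at most two -/
theorem F1 {D : Subgroup K} {x : K} (hc : Cfg D x) {t : K} (ht : t ∈ D) (ht1 : t ≠ 1) {J : Subgroup K}
    (hJ : CI t J) {d e : K} (hd : d ∈ D) (he : e ∈ D) : Cz J d ∨ Cz J e ∨ Cz J (d * e) := by
  have hx := not_cz_x hc ht ht1 hJ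
  obtain ⟨F, _, _, f, h2, hf⟩ := hJ.act
  have mem : ∀ {d}, d ∈ D → d ∈ Subgroup.centralizer ({t} : Set K) := fun hd =>
    Subgroup.mem_centralizer_singleton_iff.2 (comm_D hc.e16 hd ht)
  have mx : x ∈ Subgroup.centralizer ({t} : Set K) := Subgroup.mem_centralizer_singleton_iff.2 (hc.comm t ht).symm
  have hfx : f ⟨x, mx⟩ ≠ 1 := fun h => hx ((hf _).1 h)
  have hodd : Odd (orderOf (f ⟨x, mx⟩)) := by
    refine hc.odd.of_dvd_nat ?_
    have h1 : orderOf (f ⟨x, mx⟩) ∣ orderOf (⟨x, mx⟩ : ↥(Subgroup.centralizer ({t} : Set K))) := orderOf_map_dvd f _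
    rwa [Subgroup.orderOf_mk] at h1
  have hcm : ∀ {d} (hd : d ∈ D), f ⟨d, mem hd⟩ * f ⟨x, mx⟩ = f ⟨x, mx⟩ * f ⟨d, mem hd⟩ := by
    intro d hd
    rw [← map_mul, ← map_mul]
    exact congrArg f (Subtype.ext (hc.comm d hd))
  have hsq : ∀ {d} (hd : d ∈ D), f ⟨d, mem hd⟩ * f ⟨d, mem hd⟩ = 1 := by
    intro d hd
    rw [← map_mul, ← map_one f]
    exact congrArg f (Subtype.ext (hc.e16.inv d hd))
  rcases H40.KKL.pgl_inv h2 hfx hodd (hcm hd) (hcm he) (hsq hd) (hsq he) with h | h | h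
  · exact Or.inl ((hf _).1 h)
  · exact Or.inr (Or.inl ((hf _).1 h))
  · right; right
    rw [← map_mul] at h
    exact (hf _).1 h

/-- **the `SL₂` layer** -/
theorem tl (h2 : (2 : F) ≠ 0) {Q : SL(2, F) →* K} {t : K} (hQt : Q (-1) = t) {J : Subgroup K} (hJ : Q.range = J)
    (hC : ∀ c : K, c * t = t * c → Act Q c) {D : Subgroup K} {x : K} (hc : Cfg D x) (ht : t ∈ D) (ht1 : t ≠ 1)
    {s : K} (hs : s ∈ D) (hns : ¬ Cz J s) : TL D t J := by
  have hQ : Function.Injective Q := inj_of_neg h2 (by rw [hQt]; exact ht1)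
  have hci : CI t J := by
    have := H392.KKL.ci_of_hom h2 Q (by rw [hQt]; exact ht1) (by rw [hQt]; exact hC)
    rwa [hQt, hJ] at this
  have hcomm : ∀ {d e : K}, d ∈ D → e ∈ D → d * e = e * d := fun hd he => comm_D hc.e16 hd he
  have hinv : ∀ {d : K}, d ∈ D → d⁻¹ = d := fun hd => inv_eq_of_mul_eq_one_left (hc.e16.inv _ hd)
  have hCz : ∀ {c : K} {g : GL (Fin 2) F}, (∀ m, c * Q m * c⁻¹ = Q (cg g m)) → (Cz J c ↔ Sc (g : M₂)) := by
    intro c g hg
    rw [← H40.KKL.center_iff, ← cg_trivial]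
    constructor
    · intro h m
      apply hQ
      have h3 := h (Q m) (hJ ▸ ⟨m, rfl⟩)
      rw [← hg, h3, mul_inv_cancel_right]
    · intro h j hj
      rw [← hJ] at hj
      obtain ⟨m, rfl⟩ := hj
      have h3 := hg m
      rw [h m] at h3
      exact mul_inv_eq_iff_eq_mul.1 h3
  -- the matrix of `s`
  obtain ⟨δ, hδ⟩ := hC s (hcomm hs ht)
  have hδn : ¬ Sc (δ : M₂) := fun h => hns ((hCz hδ).2 h)
  have hδ2 : Sc ((δ : M₂) * (δ : M₂)) := by
    have h3 : ∀ m, (s * s) * Q m * (s * s)⁻¹ = Q (cg (δ * δ) m) := by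
      intro m
      rw [cg_mul, ← hδ, ← hδ]
      group
    have h4 := (hCz h3).1 (by rw [hc.e16.inv s hs]; exact Cz.one J)
    rwa [Units.val_mul] at h4
  have h0 : (δ : M₂) 0 0 + (δ : M₂) 1 1 = 0 := trace_zero hδn hδ2
  have hdet : (δ : M₂).det ≠ 0 := (Matrix.isUnits_det_units δ).ne_zero
  -- elements of `D` not centralizing `J` act as `s`
  have hact : ∀ {d : K}, d ∈ D → ¬ Cz J d → ∀ m, d * Q m * d⁻¹ = s * Q m * s⁻¹ := by
    intro d hd hnd m
    have h3 : Cz J (s * d) := by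
      rcases F1 hc ht ht1 hci hs hd with h | h | h
      · exact absurd h hns
      · exact absurd h hnd
      · exact h
    have h4 := h3 (Q m) (hJ ▸ ⟨m, rfl⟩)
    have h5 : s * d * Q m * (s * d)⁻¹ = Q m := by rw [h4, mul_inv_cancel_right]
    calc d * Q m * d⁻¹ = s⁻¹ * (s * d * Q m * (s * d)⁻¹) * s := by group
      _ = s⁻¹ * Q m * s := by rw [h5]
      _ = _ := by rw [hinv hs]
  have memA : ∀ {m : SL(2, F)}, Q m ∈ At D J ↔ (m : M₂) * (δ : M₂) = (δ : M₂) * (m : M₂) := by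
    intro m
    constructor
    · intro h
      have h3 := Subgroup.mem_centralizer_iff.1 h.2 s hs
      have h4 : cg δ m = m := by
        apply hQ
        rw [← hδ, h3, mul_inv_cancel_right]
      exact (cg_eq_iff.1 h4).symm
    · intro h
      have h4 : cg δ m = m := cg_eq h.symm
      refine ⟨hJ ▸ ⟨m, rfl⟩, Subgroup.mem_centralizer_iff.2 fun d hd => ?_⟩
      by_cases hz : Cz J d
      · exact hz _ (hJ ▸ ⟨m, rfl⟩)
      · have h5 := hact hd hz m
        rw [hδ, h4] at h5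
        exact mul_inv_eq_iff_eq_mul.1 h5
  have ofA : ∀ a ∈ At D J, ∃ m : SL(2, F), Q m = a ∧ (m : M₂) * (δ : M₂) = (δ : M₂) * (m : M₂) := by
    intro a ha
    have h3 : a ∈ Q.range := hJ ▸ ha.1
    obtain ⟨m, rfl⟩ := h3
    exact ⟨m, rfl, memA.1 ha⟩
  refine ⟨?_, ?_, ?_, ?_, ?_⟩
  · -- commutativity
    intro a ha b hb
    obtain ⟨m, rfl, hm⟩ := ofA a ha
    obtain ⟨n, rfl, hn⟩ := ofA b hb
    rw [← map_mul, ← map_mul]
    congr 1
    apply Subtype.ext
    exact comm_of_comm hδn hm hn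
  · -- signs
    intro g hg hgt
    obtain ⟨γ, hγ⟩ := hC g hgt
    have hgs : g * s * g⁻¹ ∈ D := (hg s).2 hs
    have hngs : ¬ Cz J (g * s * g⁻¹) := by
      intro h
      apply hns
      intro j hj
      have h3 := h (g * j * g⁻¹) (hci.norm g hgt j hj)
      calc s * j = g⁻¹ * (g * s * g⁻¹ * (g * j * g⁻¹)) * g := by group
        _ = g⁻¹ * (g * j * g⁻¹ * (g * s * g⁻¹)) * g := by rw [h3]
        _ = j * s := by group
    have h3 : ∀ m, cg (γ * δ) m = cg (δ * γ) m := by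
      intro m
      apply hQ
      rw [cg_mul, cg_mul, ← hγ, ← hδ, ← hδ, ← hγ]
      have h4 := hact hgs hngs (cg γ m)
      rw [← hγ] at h4
      calc g * (s * Q m * s⁻¹) * g⁻¹ = g * s * g⁻¹ * (g * Q m * g⁻¹) * (g * s * g⁻¹)⁻¹ := by group
        _ = _ := h4
    have h4 : ((γ * δ : GL (Fin 2) F) : H40.KKL.PGL2 F) = ((δ * γ : GL (Fin 2) F) : H40.KKL.PGL2 F) := by
      refine QuotientGroup.eq.2 ?_
      rw [← cg_trivial]
      intro m
      rw [cg_mul, ← h3, ← cg_mul, inv_mul_cancel, cg_one]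
    obtain ⟨c, hc0, h5⟩ := H40.KKL.mk_eq h4
    rw [Units.val_mul, Units.val_mul] at h5
    have hd : c ^ 2 = 1 := by
      have h6 := congrArg Matrix.det h5
      rw [Matrix.det_mul, Matrix.det_smul, Matrix.det_mul, Fintype.card_fin] at h6
      have hg0 : (γ : M₂).det ≠ 0 := (Matrix.isUnits_det_units γ).ne_zero
      apply mul_right_cancel₀ (mul_ne_zero hg0 hdet)
      rw [one_mul]
      linear_combination -h6
    have hcc : (c - 1) * (c + 1) = 0 := by linear_combination hd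
    rcases mul_eq_zero.1 hcc with h6 | h6
    · left
      have h7 : c = 1 := by linear_combination h6
      rw [h7, one_smul] at h5
      intro a ha
      obtain ⟨m, rfl, hm⟩ := ofA a ha
      rw [hγ]
      congr 1
      exact cg_eq (comm_of_comm hδn h5 hm)
    · right
      have h7 : c = -1 := by linear_combination h6
      rw [h7, neg_one_smul] at h5
      intro a ha
      obtain ⟨m, rfl, hm⟩ := ofA a ha
      rw [hγ, ← map_inv]
      congr 1
      exact cg_eq (anti hδn h0 h5 hm)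
  · -- the element `w`
    obtain ⟨w, hw, hwδ⟩ := exists_w h2 h0 hdet
    refine ⟨Q w, hJ ▸ ⟨w, rfl⟩, by rw [← map_mul, hw, hQt], ?_, ?_⟩
    · intro d hd hnd
      rw [hact hd hnd, hδ, ← hQt, ← map_mul]
      congr 1
      refine cg_eq ?_
      have e : ((w * (-1) : SL(2, F)) : M₂) = -(w : M₂) := by
        rw [mul_neg, mul_one]
        rfl
      show (δ : M₂) * (w : M₂) = ((w * (-1) : SL(2, F)) : M₂) * (δ : M₂)
      rw [e, neg_mul, hwδ, neg_neg]
    · intro a ha
      obtain ⟨m, rfl, hm⟩ := ofA a ha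
      rw [← map_mul, ← map_inv, ← map_mul, ← map_inv]
      congr 1
      have h3 : w * m = m⁻¹ * w := Subtype.ext (anti hδn h0 hwδ hm)
      rw [h3, mul_inv_cancel_right]
  · intro a ha haa
    rw [← hJ] at ha
    obtain ⟨m, rfl⟩ := ha
    rw [← map_mul, ← map_one Q] at haa
    rcases mul_self_one h2 (hQ haa) with h | h
    · left; rw [h, map_one]
    · right; rw [h, hQt]
  · intro a ha hac
    rw [← hJ] at ha
    obtain ⟨m, rfl⟩ := ha
    have h3 : Matrix.SpecialLinearGroup.toGL m ∈ Subgroup.center (GL (Fin 2) F) := by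
      rw [← cg_trivial]
      intro n
      rw [cg_toGL]
      apply hQ
      rw [map_mul, map_mul, map_inv, hac (Q n) (hJ ▸ ⟨n, rfl⟩), mul_inv_cancel_right]
    have h4 : Sc (m : M₂) := H40.KKL.center_iff.1 h3
    obtain ⟨z01, z10, z00⟩ := h4
    have hd := m.2
    rw [Matrix.det_fin_two] at hd
    have hd' : (m : M₂) 0 0 * (m : M₂) 1 1 - (m : M₂) 0 1 * (m : M₂) 1 0 = 1 := hd
    have e11 : (m : M₂) 1 1 = (m : M₂) 0 0 := by linear_combination -z00
    rw [z01, zero_mul, sub_zero, e11] at hd'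
    have h5 : m * m = 1 := by
      apply Subtype.ext
      show (m : M₂) * (m : M₂) = 1
      ext i j
      fin_cases i <;> fin_cases j <;> simp [Matrix.mul_apply, Fin.sum_univ_two, z01, z10, e11, hd']
    rcases mul_self_one h2 h5 with h | h
    · left; rw [h, map_one]
    · right; rw [h, hQt]

/-- transport to the conjugates of the fundamental involution -/
theorem tl_conj (h2 : (2 : F) ≠ 0) {Q : SL(2, F) →* K} {t₀ : K} (hQt : Q (-1) = t₀)
    (hC : ∀ c : K, c * t₀ = t₀ * c → Act Q c) {J : K → Subgroup K} (hJ1 : J t₀ = Q.range)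
    (hJ3 : ∀ y t g : K, y * g * y⁻¹ ∈ J (y * t * y⁻¹) ↔ g ∈ J t) {D : Subgroup K} {x : K} (hc : Cfg D x)
    {t : K} (ht : t ∈ D) (ht1 : t ≠ 1) (hcl : IsConj t₀ t) {s : K} (hs : s ∈ D) (hns : ¬ Cz (J t) s) :
    TL D t (J t) := by
  obtain ⟨y, hy⟩ := isConj_iff.1 hcl
  refine tl (Q := (MulAut.conj y).toMonoidHom.comp Q) h2 ?_ ?_ ?_ hc ht ht1 hs hns
  · show y * Q (-1) * y⁻¹ = t
    rw [hQt, hy]
  · ext g
    have h3 := hJ3 y t₀ (y⁻¹ * g * y)
    have e : y * (y⁻¹ * g * y) * y⁻¹ = g := by group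
    rw [e, hy, hJ1] at h3
    rw [h3]
    constructor
    · rintro ⟨m, rfl⟩
      refine ⟨m, ?_⟩
      show Q m = y⁻¹ * (y * Q m * y⁻¹) * y
      group
    · rintro ⟨m, hm⟩
      refine ⟨m, ?_⟩
      show y * Q m * y⁻¹ = g
      rw [hm]
      group
  · intro c hct
    have h3 : y⁻¹ * c * y * t₀ = t₀ * (y⁻¹ * c * y) := by
      calc y⁻¹ * c * y * t₀ = y⁻¹ * (c * (y * t₀ * y⁻¹)) * y := by group
        _ = y⁻¹ * (y * t₀ * y⁻¹ * c) * y := by rw [hy, hct]
        _ = _ := by group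
    obtain ⟨γ, hγ⟩ := hC _ h3
    refine ⟨γ, fun m => ?_⟩
    show c * (y * Q m * y⁻¹) * c⁻¹ = y * Q (cg γ m) * y⁻¹
    rw [← hγ]
    group

end grp

end Cfsg.Agent.H425.KS
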